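import Mathlib

/-!
# Coefficients in flat algebras over rings with free graded pieces
-/

set_option autoImplicit false
set_option linter.style.haveILetI false

universe u

open TensorProduct

noncomputable section

namespace Groth.Agent.SchDense29

variable {A : Type u} [CommRing A] (J : Ideal A) (k : ℕ)

theorem mem_pow_succ_of_mem_smul {x : ↥(J ^ k)} (hx : x ∈ J • (⊤ : Submodule A ↥(J ^ k))) :
    (x : A) ∈ J ^ (k + 1) := by
  refine Submodule.smul_induction_on (p := fun z : ↥(J ^ k) => (z : A) ∈ J ^ (k + 1)) hx (fun j hj a _ => ?_)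
    fun a b ha hb => Ideal.add_mem _ ha hb
  rw [pow_succ']
  exact Ideal.mul_mem_mul hj a.2

theorem smul_one_eq_zero {j : A} (hj : j ∈ J) : j • (1 : A ⧸ J) = 0 :=
  (Algebra.algebraMap_eq_smul_one j).symm.trans (Ideal.Quotient.eq_zero_iff_mem.2 hj)

theorem one_tmul_eq_zero_iff (x : ↥(J ^ k)) :
    (1 : A ⧸ J) ⊗ₜ[A] x = 0 ↔ (x : A) ∈ J ^ (k + 1) := by
  constructor
  · intro h
    have h1 : x ∈ J • (⊤ : Submodule A ↥(J ^ k)) := by
      have h2 := congrArg (TensorProduct.quotTensorEquivQuotSMul (↥(J ^ k)) J) h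
      rw [map_zero, show (1 : A ⧸ J) = Ideal.Quotient.mk J 1 from (map_one _).symm,
        TensorProduct.quotTensorEquivQuotSMul_mk_tmul, one_smul] at h2
      exact (Submodule.Quotient.mk_eq_zero _).1 h2
    exact mem_pow_succ_of_mem_smul J k h1
  · intro h
    obtain ⟨x, hx⟩ := x
    have h1 : x ∈ J * J ^ k := by rwa [← pow_succ']
    clear h
    induction h1 using Submodule.mul_induction_on' with
    | mem_mul_mem j hj a ha =>
      have h2 : (⟨j * a, hx⟩ : ↥(J ^ k)) = j • (⟨a, ha⟩ : ↥(J ^ k)) := Subtype.ext rfl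
      rw [h2, TensorProduct.tmul_smul, TensorProduct.smul_tmul', smul_one_eq_zero J hj, TensorProduct.zero_tmul]
    | add p hp q hq ihp ihq =>
      have hp' : p ∈ J ^ k := Ideal.mul_le_right (I := J) (show p ∈ (J * J ^ k : Ideal A) from hp)
      have hq' : q ∈ J ^ k := Ideal.mul_le_right (I := J) (show q ∈ (J * J ^ k : Ideal A) from hq)
      have h2 : (⟨p + q, hx⟩ : ↥(J ^ k)) = (⟨p, hp'⟩ : ↥(J ^ k)) + (⟨q, hq'⟩ : ↥(J ^ k)) := Subtype.ext rfl
      rw [h2, TensorProduct.tmul_add, ihp hp', ihq hq', add_zero]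

variable {κ : Type*} (e : Module.Basis κ (A ⧸ J) ((A ⧸ J) ⊗[A] ↥(J ^ k))) (a : κ → ↥(J ^ k))
  (ha : ∀ l, (1 : A ⧸ J) ⊗ₜ[A] a l = e l) {C : Type u} [CommRing C] [Algebra A C]

include ha in
theorem exists_repr {t : C} (ht : t ∈ (J ^ k).map (algebraMap A C)) :
    ∃ c : κ →₀ C, t - c.sum (fun l x => x * algebraMap A C (a l)) ∈ (J ^ (k + 1)).map (algebraMap A C) := by
  classical
  induction ht using Submodule.span_induction with
  | mem x hx =>
    obtain ⟨r, hr, rfl⟩ := hx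
    let q := e.repr ((1 : A ⧸ J) ⊗ₜ[A] (⟨r, hr⟩ : ↥(J ^ k)))
    let rl : κ → A := fun l => Function.surjInv Ideal.Quotient.mk_surjective (q l)
    refine ⟨q.support.sum (fun l => Finsupp.single l (algebraMap A C (rl l))), ?_⟩
    rw [← Finsupp.sum_finsetSum_index (fun l => zero_mul _) (fun l b₁ b₂ => add_mul _ _ _)]
    simp only [Finsupp.sum_single_index, zero_mul, ← map_mul, ← map_sum, ← map_sub]
    refine Ideal.mem_map_of_mem _ ?_
    have h0 : (1 : A ⧸ J) ⊗ₜ[A] ((⟨r, hr⟩ : ↥(J ^ k)) - ∑ l ∈ q.support, rl l • a l) = 0 := by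
      rw [TensorProduct.tmul_sub, sub_eq_zero, TensorProduct.tmul_sum]
      conv_lhs => rw [← e.linearCombination_repr ((1 : A ⧸ J) ⊗ₜ[A] (⟨r, hr⟩ : ↥(J ^ k)))]
      rw [Finsupp.linearCombination_apply]
      refine Finset.sum_congr rfl fun l _ => ?_
      rw [TensorProduct.tmul_smul, ha]
      show q l • e l = rl l • e l
      rw [← IsScalarTower.algebraMap_smul (A ⧸ J) (rl l) (e l), Ideal.Quotient.algebraMap_eq,
        Function.surjInv_eq Ideal.Quotient.mk_surjective]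
    simpa using (one_tmul_eq_zero_iff J k _).1 h0
  | zero => exact ⟨0, by simp⟩
  | add x y _ _ hx hy =>
    obtain ⟨c, hc⟩ := hx
    obtain ⟨d, hd⟩ := hy
    refine ⟨c + d, ?_⟩
    rw [Finsupp.sum_add_index' (fun l => zero_mul _) (fun l b₁ b₂ => add_mul _ _ _), add_sub_add_comm]
    exact Ideal.add_mem _ hc hd
  | smul y x _ hx =>
    obtain ⟨c, hc⟩ := hx
    refine ⟨c.mapRange (y * ·) (mul_zero y), ?_⟩
    rw [Finsupp.sum_mapRange_index (fun l => zero_mul _), smul_eq_mul]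
    simp only [mul_assoc]
    rw [← Finsupp.mul_sum, ← mul_sub]
    exact Ideal.mul_mem_left _ _ hc

include ha in
theorem coeff_mem [Module.Flat A C] (c : κ →₀ C)
    (h : c.sum (fun l x => x * algebraMap A C (a l)) ∈ (J ^ (k + 1)).map (algebraMap A C)) (m : κ) :
    c m ∈ J.map (algebraMap A C) := by
  classical
  let μ : C ⊗[A] ↥(J ^ k) →ₗ[A] C :=
    (TensorProduct.rid A C).toLinearMap.comp ((Submodule.subtype (J ^ k)).lTensor C)
  have hμ : ∀ (x : C) (r : ↥(J ^ k)), μ (x ⊗ₜ[A] r) = x * algebraMap A C r := fun x r => by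
    simp [μ, Algebra.smul_def, mul_comm]
  have hμi : Function.Injective μ := (TensorProduct.rid A C).injective.comp
    (Module.Flat.lTensor_preserves_injective_linearMap _ (Submodule.injective_subtype _))
  let L : C ⊗[A] ↥(J ^ k) →ₗ[A] C ⊗[A] (A ⧸ J) :=
    (((e.coord m).restrictScalars A).comp (TensorProduct.mk A (A ⧸ J) ↥(J ^ k) 1)).lTensor C
  have hL : ∀ x, x ∈ (J ^ (k + 1)).map (algebraMap A C) → ∀ w : C, ∃ y, μ y = w * x ∧ L y = 0 := by
    intro x hx
    induction hx using Submodule.span_induction with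
    | mem x hx =>
      obtain ⟨r, hr, rfl⟩ := hx
      refine fun w => ⟨w ⊗ₜ[A] ⟨r, Ideal.pow_le_pow_right (Nat.le_succ k) hr⟩, hμ _ _, ?_⟩
      simp [L, (one_tmul_eq_zero_iff J k ⟨r, Ideal.pow_le_pow_right (Nat.le_succ k) hr⟩).2 hr]
    | zero => exact fun w => ⟨0, by simp, map_zero L⟩
    | add x y _ _ hx hy =>
      intro w
      obtain ⟨p, hp, hp'⟩ := hx w
      obtain ⟨q, hq, hq'⟩ := hy w
      exact ⟨p + q, by rw [map_add, hp, hq, mul_add], by rw [map_add, hp', hq', add_zero]⟩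
    | smul y x _ hx =>
      intro w
      obtain ⟨p, hp, hp'⟩ := hx (w * y)
      exact ⟨p, by rw [hp, smul_eq_mul, mul_assoc], hp'⟩
  obtain ⟨y, hy, hy'⟩ := hL _ h 1
  rw [one_mul] at hy
  have hy2 : y = c.sum fun l x => x ⊗ₜ[A] a l := hμi (by
    rw [hy, Finsupp.sum, Finsupp.sum, map_sum]
    exact Finset.sum_congr rfl fun l _ => (hμ _ _).symm)
  have hz : c m ⊗ₜ[A] (1 : A ⧸ J) = 0 := by
    rw [← hy', hy2, Finsupp.sum, map_sum]
    rw [Finset.sum_eq_single m (fun l _ hl => by simp [L, ha, Module.Basis.coord_apply, Finsupp.single_eq_of_ne' hl])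
      (fun hm => by simp [Finsupp.notMem_support_iff.1 hm])]
    simp [L, ha, Module.Basis.coord_apply]
  have h3 := congrArg (TensorProduct.tensorQuotEquivQuotSMul C J) hz
  rw [map_zero, show (1 : A ⧸ J) = Ideal.Quotient.mk J 1 from (map_one _).symm,
    TensorProduct.tensorQuotEquivQuotSMul_tmul_mk, one_smul, Submodule.Quotient.mk_eq_zero,
    Ideal.smul_top_eq_map] at h3
  exact h3

end Groth.Agent.SchDense29
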