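import Groth.Agent.Lib.SchDense29.Eval
import Groth.Agent.Lib.SchDense29.GrFree

/-!
# Schematic density lifts along nilpotent thickenings with free graded pieces
-/

set_option autoImplicit false
set_option linter.style.haveILetI false
set_option backward.isDefEq.respectTransparency.types false

universe u

open CategoryTheory CategoryTheory.Limits AlgebraicGeometry TopologicalSpace Opposite TensorProduct

noncomputable section

namespace Groth.Agent.SchDense29

variable {A : CommRingCat.{u}} {X Y : Scheme.{u}}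

/-- The structure map of the ring of an affine open. -/
def str (p : X ⟶ Spec A) {W : X.Opens} (hW : IsAffineOpen W) : A →+* Γ(X, W) :=
  (Spec.preimage (hW.fromSpec ≫ p)).hom

theorem specMap_str (p : X ⟶ Spec A) {W : X.Opens} (hW : IsAffineOpen W) :
    Spec.map (CommRingCat.ofHom (str p hW)) = hW.fromSpec ≫ p := Spec.map_preimage _

theorem flat_str (p : X ⟶ Spec A) [Flat p] {W : X.Opens} (hW : IsAffineOpen W) : (str p hW).Flat := by
  haveI : Flat (hW.fromSpec ≫ p) := inferInstance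
  rw [← specMap_str] at this
  exact HasRingHomProperty.Spec_iff.1 this

theorem specMap_ev_str (p : X ⟶ Spec A) {W : X.Opens} (hW : IsAffineOpen W) {D : Type u} [CommRing D]
    (g : Spec (CommRingCat.of D) ⟶ X) (h : ∀ z, g z ∈ W) :
    Spec.map (CommRingCat.ofHom ((ev g W h).comp (str p hW))) = g ≫ p := by
  rw [CommRingCat.ofHom_comp, Spec.map_comp, specMap_str, ← Category.assoc, ← exists_fac_ev hW g h]

theorem ev_comp_fac (g : Y ⟶ X) {W : X.Opens} (hW : IsAffineOpen W) {W' : Y.Opens} (hW' : IsAffineOpen W')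
    (hle : ∀ z, (hW'.fromSpec ≫ g) z ∈ W) {D : Type u} [CommRing D] (z : Spec (CommRingCat.of D) ⟶ Y)
    (hz : ∀ w, z w ∈ W') (hzg : ∀ w, (z ≫ g) w ∈ W) :
    ev (z ≫ g) W hzg = (ev z W' hz).comp (ev (hW'.fromSpec ≫ g) W hle) := by
  have h : z ≫ g = Spec.map (CommRingCat.ofHom ((ev z W' hz).comp (ev (hW'.fromSpec ≫ g) W hle))) ≫ hW.fromSpec := by
    rw [CommRingCat.ofHom_comp, Spec.map_comp, Category.assoc, ← exists_fac_ev hW _ hle, ← Category.assoc,
      ← exists_fac_ev hW' z hz]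
  rw [ev_congr h _ _ (fun w => by rw [← h]; exact hzg w), ev_fac]

theorem ev_kills {J : Ideal A} (p : X ⟶ Spec A) {W : X.Opens} (hW : IsAffineOpen W) {D : Type u} [CommRing D]
    (g : Spec (CommRingCat.of D) ⟶ pullback p (Spec.map (CommRingCat.ofHom (Ideal.Quotient.mk J))))
    (h : ∀ z, (g ≫ pullback.fst _ _) z ∈ W) {c : Γ(X, W)} (hc : c ∈ J.map (str p hW)) :
    ev (g ≫ pullback.fst _ _) W h c = 0 := by
  let φ : (A ⧸ J) →+* D := (Spec.preimage (g ≫ pullback.snd _ _)).hom
  have e : (ev (g ≫ pullback.fst _ _) W h).comp (str p hW) = φ.comp (Ideal.Quotient.mk J) := by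
    refine congrArg CommRingCat.Hom.hom (Spec.map_injective
      ((specMap_ev_str p hW _ h).trans ?_ : Spec.map (CommRingCat.ofHom _) = Spec.map (CommRingCat.ofHom (φ.comp _))))
    rw [CommRingCat.ofHom_comp, Spec.map_comp, CommRingCat.ofHom_hom, Spec.map_preimage, Category.assoc,
      Category.assoc, pullback.condition]
  have hle : J.map (str p hW) ≤ RingHom.ker (ev (g ≫ pullback.fst _ _) W h) :=
    Ideal.map_le_iff_le_comap.2 fun j hj => by
      show ((ev (g ≫ pullback.fst _ _) W h).comp (str p hW)) j = 0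
      rw [e, RingHom.comp_apply, Ideal.Quotient.eq_zero_iff_mem.2 hj, map_zero]
  exact hle hc

variable {ι : Type u} (Z : ι → Scheme.{u}) (p : X ⟶ Spec A) [Flat p] (v : ∀ i, Z i ⟶ X) [∀ i, Flat (v i ≫ p)]
  {J : Ideal A}

include Z v in
/-- One step of the devissage. -/
theorem mem_pow_succ (hfree : ∀ k : ℕ, Module.Free (A ⧸ J) ((A ⧸ J) ⊗[A] ↥(J ^ k)))
    (h0 : ∀ (V : (pullback p (Spec.map (CommRingCat.ofHom (Ideal.Quotient.mk J)))).Opens) (t : Γ(pullback p (Spec.map (CommRingCat.ofHom (Ideal.Quotient.mk J))), V)),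
      (∀ i, (pullback.map (v i ≫ p) (Spec.map (CommRingCat.ofHom (Ideal.Quotient.mk J))) p (Spec.map (CommRingCat.ofHom (Ideal.Quotient.mk J))) (v i) (𝟙 _) (𝟙 _)
        (Category.comp_id _) ((Category.comp_id _).trans (Category.id_comp _).symm)).app V t = 0) → t = 0)
    {W : X.Opens} (hW : IsAffineOpen W) {t : Γ(X, W)} (ht : ∀ i, (v i).app W t = 0)
    {k : ℕ} (hk : t ∈ (J ^ k).map (str p hW)) : t ∈ (J ^ (k + 1)).map (str p hW) := by
  classical
  haveI := hfree k
  let e := Module.Free.chooseBasis (A ⧸ J) ((A ⧸ J) ⊗[A] ↥(J ^ k))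
  have hex : ∀ l, ∃ a : ↥(J ^ k), (1 : A ⧸ J) ⊗ₜ[A] a = e l := fun l =>
    TensorProduct.mk_surjective A ↥(J ^ k) (A ⧸ J) Ideal.Quotient.mk_surjective (e l)
  choose a ha using hex
  algebraize [str p hW]
  obtain ⟨c, hc⟩ := exists_repr J k e a ha (C := Γ(X, W)) hk
  have hb : ∀ l, c l ∈ J.map (str p hW) := by
    intro l
    let fstX := pullback.fst p (Spec.map (CommRingCat.ofHom (Ideal.Quotient.mk J)))
    have hzero : fstX.app W (c l) = 0 := by
      refine h0 _ _ fun i => ?_
      refine eq_zero_of_ev _ _ fun x hx => ?_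
      let fstZ := pullback.fst (v i ≫ p) (Spec.map (CommRingCat.ofHom (Ideal.Quotient.mk J)))
      let m := pullback.map (v i ≫ p) (Spec.map (CommRingCat.ofHom (Ideal.Quotient.mk J))) p
        (Spec.map (CommRingCat.ofHom (Ideal.Quotient.mk J))) (v i) (𝟙 _) (𝟙 _)
        (Category.comp_id _) ((Category.comp_id _).trans (Category.id_comp _).symm)
      have hm : m ≫ fstX = fstZ ≫ v i := pullback.lift_fst _ _ _
      have hxW : fstZ x ∈ v i ⁻¹ᵁ W := by
        show v i (fstZ x) ∈ W
        rw [← Scheme.Hom.comp_apply, ← hm]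
        exact hx
      obtain ⟨W', hW', hxW', hle⟩ := exists_isAffineOpen_mem_and_subset hxW
      refine ⟨fstZ ⁻¹ᵁ W', hxW', fun D _ g hg hgN => ?_⟩
      have h1 : ∀ w, (g ≫ fstZ ≫ v i) w ∈ W := fun w => hle (hgN w)
      rw [ev_app, ev_app, ev_congr (show (g ≫ m) ≫ fstX = g ≫ fstZ ≫ v i by rw [Category.assoc, hm]) _ _ h1,
        ev_congr (Category.assoc g fstZ (v i)).symm _ h1 (fun w => h1 w),
        ev_comp_fac (v i) hW hW' (fun w => hle (fromSpec_mem hW' w)) (g ≫ fstZ) hgN]
      refine ev_kills (v i ≫ p) hW' g hgN ?_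
      let φ := ev (hW'.fromSpec ≫ v i) W (fun w => hle (fromSpec_mem hW' w))
      have hφs : φ.comp (str p hW) = str (v i ≫ p) hW' := by
        refine congrArg CommRingCat.Hom.hom (Spec.map_injective
          ((specMap_ev_str p hW _ _).trans ?_ : Spec.map (CommRingCat.ofHom _) = Spec.map (CommRingCat.ofHom (str (v i ≫ p) hW'))))
        rw [specMap_str, Category.assoc]
      have hφt : φ t = 0 := by
        show ev (hW'.fromSpec ≫ v i) W _ t = 0
        rw [← ev_app _ _ _ (fun w => hle (fromSpec_mem hW' w)), ht, map_zero]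
      letI := (str (v i ≫ p) hW').toAlgebra
      haveI : Module.Flat A Γ(Z i, W') := flat_str (v i ≫ p) hW'
      show φ (c l) ∈ _
      refine (Finsupp.mapRange_apply (hf := map_zero φ)).symm.subst
        (motive := fun z => z ∈ J.map (str (v i ≫ p) hW'))
        (coeff_mem J k e a ha (C := Γ(Z i, W')) (c.mapRange φ (map_zero φ)) ?_ l)
      rw [Finsupp.sum_mapRange_index (fun l => zero_mul _)]
      have h2 := Ideal.mem_map_of_mem φ hc
      rw [Ideal.map_map, show φ.comp (algebraMap A Γ(X, W)) = algebraMap A Γ(Z i, W') from hφs, map_sub, hφt,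
        zero_sub, neg_mem_iff, map_finsuppSum] at h2
      refine (Eq.subst (motive := fun z => z ∈ _) ?_ h2)
      refine Finsupp.sum_congr fun l' _ => ?_
      rw [map_mul]
      exact congrArg (φ (c l') * ·) (RingHom.congr_fun hφs _)
    let B := Γ(X, W)
    let q : B →+* B ⧸ J.map (str p hW) := Ideal.Quotient.mk _
    let ψ : (A ⧸ J) →+* B ⧸ J.map (str p hW) := Ideal.Quotient.lift J (q.comp (str p hW))
      fun j hj => Ideal.Quotient.eq_zero_iff_mem.2 (Ideal.mem_map_of_mem _ hj)
    let σ : Spec (CommRingCat.of (B ⧸ J.map (str p hW))) ⟶ pullback p (Spec.map (CommRingCat.ofHom (Ideal.Quotient.mk J))) :=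
      pullback.lift (Spec.map (CommRingCat.ofHom q) ≫ hW.fromSpec) (Spec.map (CommRingCat.ofHom ψ)) (by
        rw [Category.assoc, ← specMap_str, ← Spec.map_comp, ← Spec.map_comp, ← CommRingCat.ofHom_comp,
          ← CommRingCat.ofHom_comp]
        exact congrArg (fun f => Spec.map (CommRingCat.ofHom f)) (RingHom.ext fun r => rfl))
    have hσW : ∀ w, (Spec.map (CommRingCat.ofHom q) ≫ hW.fromSpec) w ∈ W := fun w => fromSpec_mem hW _
    have hσ : σ ≫ fstX = Spec.map (CommRingCat.ofHom q) ≫ hW.fromSpec := pullback.lift_fst _ _ _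
    have h3 : ev (σ ≫ fstX) W (fun w => by rw [hσ]; exact hσW w) (c l) = 0 := by
      rw [← ev_app σ fstX W (fun w => by show (σ ≫ fstX) w ∈ W; rw [hσ]; exact hσW w), hzero, map_zero]
    rw [ev_congr hσ _ _ hσW, ev_fac] at h3
    exact Ideal.Quotient.eq_zero_iff_mem.1 h3
  have h4 : c.sum (fun l x => x * algebraMap A Γ(X, W) (a l)) ∈ (J ^ (k + 1)).map (str p hW) :=
    Ideal.sum_mem _ fun l _ => by
      show c l * str p hW (a l) ∈ _
      rw [pow_succ', Ideal.map_mul]
      exact Ideal.mul_mem_mul (hb l) (Ideal.mem_map_of_mem _ (a l).2)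
  exact (Submodule.sub_mem_iff_left _ h4).1 hc

include Z v in
theorem eq_zero_of_dense (hJ : IsNilpotent J) (hfree : ∀ k : ℕ, Module.Free (A ⧸ J) ((A ⧸ J) ⊗[A] ↥(J ^ k)))
    (h0 : ∀ (V : (pullback p (Spec.map (CommRingCat.ofHom (Ideal.Quotient.mk J)))).Opens) (t : Γ(pullback p (Spec.map (CommRingCat.ofHom (Ideal.Quotient.mk J))), V)),
      (∀ i, (pullback.map (v i ≫ p) (Spec.map (CommRingCat.ofHom (Ideal.Quotient.mk J))) p (Spec.map (CommRingCat.ofHom (Ideal.Quotient.mk J))) (v i) (𝟙 _) (𝟙 _)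
        (Category.comp_id _) ((Category.comp_id _).trans (Category.id_comp _).symm)).app V t = 0) → t = 0)
    (V : X.Opens) (t : Γ(X, V)) (ht : ∀ i, (v i).app V t = 0) : t = 0 := by
  refine eq_zero_of_ev V t fun x hx => ?_
  obtain ⟨W, hW, hxW, hle'⟩ := exists_isAffineOpen_mem_and_subset hx
  have hle : W ≤ V := hle'
  refine ⟨W, hxW, fun D _ g hg hgW => ?_⟩
  let tW := X.presheaf.map (homOfLE hle).op t
  have htW : ∀ i, (v i).app W tW = 0 := fun i => by
    show (X.presheaf.map (homOfLE hle).op ≫ (v i).app W).hom t = 0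
    rw [(v i).naturality]
    show ((Z i).presheaf.map _).hom ((v i).app V t) = 0
    rw [ht, map_zero]
  have hpow : ∀ k : ℕ, tW ∈ (J ^ k).map (str p hW) := by
    intro k
    induction k with
    | zero => simp [Ideal.map_top]
    | succ k ih => exact mem_pow_succ Z p v hfree h0 hW htW ih
  obtain ⟨n, hn⟩ := hJ
  have h1 := hpow n
  rw [hn, Ideal.zero_eq_bot, Ideal.map_bot, Ideal.mem_bot] at h1
  rw [← ev_res g hle hgW, show X.presheaf.map (homOfLE hle).op t = 0 from h1, map_zero]

end Groth.Agent.SchDense29
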