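import Mathlib

/-!
# Values of sections at affine points
-/

set_option autoImplicit false
set_option linter.style.haveILetI false
set_option backward.isDefEq.respectTransparency.types false

universe u

open CategoryTheory AlgebraicGeometry TopologicalSpace Opposite

noncomputable section

namespace Groth.Agent.SchDense29

variable {X Y : Scheme.{u}} {D D' : Type u} [CommRing D] [CommRing D']

/-- The value of a section at a point with values in a ring. -/
def ev (g : Spec (CommRingCat.of D) ⟶ X) (O : X.Opens) (h : ∀ z, g z ∈ O) : Γ(X, O) →+* D :=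
  (g.appLE O ⊤ (fun z _ => h z) ≫ (Scheme.ΓSpecIso (CommRingCat.of D)).hom).hom

theorem ev_congr {g g' : Spec (CommRingCat.of D) ⟶ X} (hg : g = g') (O : X.Opens) (h : ∀ z, g z ∈ O)
    (h' : ∀ z, g' z ∈ O) : ev g O h = ev g' O h' := by
  subst hg; rfl

theorem ev_res (g : Spec (CommRingCat.of D) ⟶ X) {O O' : X.Opens} (hle : O' ≤ O) (h : ∀ z, g z ∈ O')
    (s : Γ(X, O)) : ev g O' h (X.presheaf.map (homOfLE hle).op s) = ev g O (fun z => hle (h z)) s := by
  show (X.presheaf.map (homOfLE hle).op ≫ g.appLE O' ⊤ _ ≫ _).hom s = _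
  rw [Scheme.Hom.map_appLE_assoc]
  rfl

theorem ev_app (g : Spec (CommRingCat.of D) ⟶ X) (f : X ⟶ Y) (O : Y.Opens) (h : ∀ z, g z ∈ f ⁻¹ᵁ O)
    (s : Γ(Y, O)) : ev g (f ⁻¹ᵁ O) h (f.app O s) = ev (g ≫ f) O h s := by
  rw [ev, ev]
  rw [Scheme.Hom.comp_appLE]
  rfl

theorem ev_fac {W : X.Opens} (hW : IsAffineOpen W) (φ : Γ(X, W) →+* D)
    (h : ∀ z, (Spec.map (CommRingCat.ofHom φ) ≫ hW.fromSpec) z ∈ W) :
    ev (Spec.map (CommRingCat.ofHom φ) ≫ hW.fromSpec) W h = φ := by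
  refine RingHom.ext fun s => ?_
  rw [ev, Scheme.Hom.comp_appLE, hW.fromSpec_app_self]
  simp only [Category.assoc, Scheme.Hom.map_appLE_assoc]
  show ((Scheme.ΓSpecIso Γ(X, W)).inv ≫ (Spec.map (CommRingCat.ofHom φ)).appLE ⊤ ⊤ _ ≫
    (Scheme.ΓSpecIso (CommRingCat.of D)).hom).hom s = φ s
  rw [show (Spec.map (CommRingCat.ofHom φ)).appLE ⊤ ⊤ (fun _ _ => trivial) = (Spec.map (CommRingCat.ofHom φ)).appTop from
    (Scheme.Hom.app_eq_appLE _).symm, Scheme.ΓSpecIso_naturality]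
  exact congrArg φ (ConcreteCategory.congr_hom (Scheme.ΓSpecIso Γ(X, W)).inv_hom_id s)

theorem exists_fac_ev {W : X.Opens} (hW : IsAffineOpen W) (g : Spec (CommRingCat.of D) ⟶ X) (h : ∀ z, g z ∈ W) :
    g = Spec.map (CommRingCat.ofHom (ev g W h)) ≫ hW.fromSpec := by
  obtain ⟨φ, rfl⟩ : ∃ φ : Γ(X, W) →+* D, Spec.map (CommRingCat.ofHom φ) ≫ hW.fromSpec = g := by
    refine ⟨(Spec.preimage (IsOpenImmersion.lift hW.fromSpec g
      (by rw [hW.range_fromSpec]; rintro _ ⟨z, rfl⟩; exact h z))).hom, ?_⟩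
    rw [CommRingCat.ofHom_hom, Spec.map_preimage, IsOpenImmersion.lift_fac]
  rw [ev_fac hW φ h]

theorem fromSpec_mem {W : X.Opens} (hW : IsAffineOpen W) (z : Spec Γ(X, W)) : hW.fromSpec z ∈ W :=
  hW.range_fromSpec.subset (Set.mem_range_self z)

/-- A section vanishing at all affine points near every point is zero. -/
theorem eq_zero_of_ev (O : X.Opens) (s : Γ(X, O))
    (h : ∀ x ∈ O, ∃ (N : X.Opens) (_ : x ∈ N), ∀ (D : Type u) [CommRing D] (g : Spec (CommRingCat.of D) ⟶ X)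
      (hg : ∀ z, g z ∈ O), (∀ z, g z ∈ N) → ev g O hg s = 0) : s = 0 := by
  choose N hxN hN using h
  choose W hW hxW hWle using fun x : O => exists_isAffineOpen_mem_and_subset
    (show (x : X) ∈ O ⊓ N x x.2 from ⟨x.2, hxN x x.2⟩)
  refine TopCat.Sheaf.eq_of_locally_eq' X.sheaf W O (fun x => homOfLE fun y hy => (hWle x hy).1)
    (fun y hy => Opens.mem_iSup.2 ⟨⟨y, hy⟩, hxW _⟩) _ _ fun x => ?_
  refine Eq.trans ?_ (map_zero _).symm
  have h1 := hN x x.2 _ (hW x).fromSpec (fun z => (hWle x (fromSpec_mem (hW x) z)).1)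
    (fun z => (hWle x (fromSpec_mem (hW x) z)).2)
  rw [← ev_res _ (fun y hy => (hWle x hy).1) (fromSpec_mem (hW x))] at h1
  have e : (hW x).fromSpec = Spec.map (CommRingCat.ofHom (RingHom.id _)) ≫ (hW x).fromSpec := by
    rw [show CommRingCat.ofHom (RingHom.id Γ(X, W x)) = 𝟙 _ from rfl, Spec.map_id, Category.id_comp]
  rw [ev_congr e _ _ (fun z => by rw [← e]; exact fromSpec_mem (hW x) z), ev_fac] at h1
  exact h1

end Groth.Agent.SchDense29
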