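import Groth.Agent.Lib.NeronMap.Dense
import Groth.Agent.Lib.AbRigid.Maximal
import Groth.Prelude.Def_Red

/-!
# Maps agreeing on a relatively schematically dense open
-/

set_option autoImplicit false
set_option backward.isDefEq.respectTransparency.types false
set_option backward.isDefEq.respectTransparency false

universe u

open CategoryTheory Limits AlgebraicGeometry Opposite

noncomputable section

namespace Groth.Agent.SchDense29

/-- Two maps to a scheme with separated fibres agreeing on a relatively schematically dense open are equal. -/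
theorem eq_of_fibres_separated {S : Scheme.{u}} (X Y : Over S) (U : X.left.Opens)
    (hU : ∀ (S' : Scheme.{u}) (g : S' ⟶ S), CInt.IsSchematicallyDense ((pullback.fst X.hom g) ⁻¹ᵁ U))
    (hY : ∀ s : S, IsSeparated (pullback.snd Y.hom (S.fromSpecResidueField s)))
    (f g : X ⟶ Y) (h : U.ι ≫ f.left = U.ι ≫ g.left) : f = g := by
  have hfib : ∀ (s : S), pullback.fst X.hom (S.fromSpecResidueField s) ≫ f.left =
      pullback.fst X.hom (S.fromSpecResidueField s) ≫ g.left := by
    intro s
    let p := pullback.fst X.hom (S.fromSpecResidueField s)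
    let q := pullback.snd X.hom (S.fromSpecResidueField s)
    let fl : pullback X.hom (S.fromSpecResidueField s) ⟶ pullback Y.hom (S.fromSpecResidueField s) :=
      pullback.lift (p ≫ f.left) q (by rw [Category.assoc, Over.w f]; exact pullback.condition)
    let gl : pullback X.hom (S.fromSpecResidueField s) ⟶ pullback Y.hom (S.fromSpecResidueField s) :=
      pullback.lift (p ≫ g.left) q (by rw [Category.assoc, Over.w g]; exact pullback.condition)
    haveI := hY s
    have he : fl = gl := by
      refine NeronMap.eq_of_ι_comp_eq (hU _ (S.fromSpecResidueField s)) (pullback.snd Y.hom _) fl gl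
        (by simp [fl, gl]) (pullback.hom_ext ?_ ?_)
      · simp only [fl, gl, Category.assoc, pullback.lift_fst]
        rw [← morphismRestrict_ι_assoc, h, morphismRestrict_ι_assoc]
      · simp only [fl, gl, Category.assoc, pullback.lift_snd]
    have := congrArg (· ≫ pullback.fst Y.hom (S.fromSpecResidueField s)) he
    simpa [fl, gl, p] using this
  let j : X.left ⟶ pullback Y.hom Y.hom := pullback.lift f.left g.left ((Over.w f).trans (Over.w g).symm)
  let k := pullback.fst j (pullback.diagonal Y.hom)
  haveI : IsImmersion k := MorphismProperty.pullback_fst _ _ (inferInstanceAs (IsImmersion (pullback.diagonal Y.hom)))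
  have hlift : ∀ {T : Scheme.{u}} (t : T ⟶ X.left), t ≫ f.left = t ≫ g.left → ∃ l, l ≫ k = t := fun t ht =>
    ⟨pullback.lift t (t ≫ f.left) (pullback.hom_ext (by simp [j]) (by simp [j, ht])), pullback.lift_fst _ _ _⟩
  have hrange : Set.range k = Set.univ := by
    refine Set.eq_univ_of_forall fun x => ?_
    let y := X.hom x
    have hsq : X.left.fromSpecResidueField x ≫ X.hom = Spec.map (X.hom.residueFieldMap x) ≫ S.fromSpecResidueField y :=
      (Scheme.Hom.SpecMap_residueFieldMap_fromSpecResidueField X.hom x).symm
    obtain ⟨l, hl⟩ := hlift (X.left.fromSpecResidueField x) (by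
      rw [← pullback.lift_fst (X.left.fromSpecResidueField x) _ hsq, Category.assoc, Category.assoc, hfib y])
    refine ⟨l (IsLocalRing.closedPoint _), ?_⟩
    rw [← Scheme.Hom.comp_apply, hl, Scheme.fromSpecResidueField_apply]
  haveI : IsClosedImmersion k := IsClosedImmersion.of_isPreimmersion k (by rw [hrange]; exact isClosed_univ)
  obtain ⟨l, hl⟩ := hlift U.ι h
  have hker : k.ker = ⊥ := by
    have hUd : CInt.IsSchematicallyDense U := by
      intro V a b hab
      let p := pullback.fst X.hom (𝟙 S)
      have hinj : Function.Injective (p.app V) :=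
        (ConcreteCategory.bijective_of_isIso (p.app V)).injective
      apply hinj
      apply hU S (𝟙 S) (p ⁻¹ᵁ V)
      have e := p.naturality (homOfLE (inf_le_left : V ⊓ U ≤ V)).op
      have ea : ∀ c, (pullback X.hom (𝟙 S)).presheaf.map (homOfLE (inf_le_left : p ⁻¹ᵁ V ⊓ p ⁻¹ᵁ U ≤ p ⁻¹ᵁ V)).op
          (p.app V c) = p.app (V ⊓ U) (X.left.presheaf.map (homOfLE (inf_le_left : V ⊓ U ≤ V)).op c) := fun c =>
        (congrArg (fun m => m.hom c) e).symm
      rw [ea, ea, hab]
    rw [eq_bot_iff, ← NeronMap.ker_ι_eq_bot hUd, ← hl]
    exact Scheme.Hom.le_ker_comp _ _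
  haveI : IsIso k := IsClosedImmersion.isIso_iff_ker_eq_bot.2 hker
  have hc : k ≫ f.left = k ≫ g.left := by
    have hc := pullback.condition (f := j) (g := pullback.diagonal Y.hom)
    have h1 := congrArg (· ≫ pullback.fst Y.hom Y.hom) hc
    have h2 := congrArg (· ≫ pullback.snd Y.hom Y.hom) hc
    simp only [Category.assoc, pullback.diagonal_fst, pullback.diagonal_snd, Category.comp_id] at h1 h2
    simp only [j, pullback.lift_fst, pullback.lift_snd] at h1 h2
    exact h1.trans h2.symm
  exact Over.OverMorphism.ext ((cancel_epi k).1 hc)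

/-- For group schemes no separation hypothesis is needed. -/
theorem eq_of_group {S : Scheme.{u}} (X H : Over S) [GrpObj H] (U : X.left.Opens)
    (hU : ∀ (S' : Scheme.{u}) (g : S' ⟶ S), CInt.IsSchematicallyDense ((pullback.fst X.hom g) ⁻¹ᵁ U))
    (f g : X ⟶ H) (h : U.ι ≫ f.left = U.ι ≫ g.left) : f = g :=
  eq_of_fibres_separated X H U hU
    (fun s => AbRigid.isSeparated_of_grpObj (K := S.residueField s) (Red.bc (S.fromSpecResidueField s) H)) f g h

end Groth.Agent.SchDense29
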